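/-
Kernel table: a set of central elements in `2 ^ 11` containing the prescribed elements, one
translation orbit in each remaining coset and a completion of eight pencils is the set of octad
classes of the length-24 code, up to sign changes of the last six coordinates.
-/
import Mathlib
import Cfsg.Agent.Lib.Co1Golay29.Data
import Cfsg.Agent.Lib.Golay.Code

set_option autoImplicit false
set_option maxRecDepth 1000000

namespace Cfsg.Agent.Lib.Co1Golay29

open Data

/-- The image of a coset is singular. -/
def isSing (a : ℕ) : Bool := singMask.testBit (a >>> 5)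

/-- The number of the coset of an element. -/
def cosetNo (a : ℕ) : ℕ := (cosetIdx >>> (5 * (a >>> 5))) &&& 31

/-- The central elements for given orbit bits. -/
def cen (b a : ℕ) : Bool :=
  if a >>> 5 == 0 then a != 0
  else if isSing a then singSet.testBit a
  else b.testBit (cosetNo a) == orbOne.testBit a

/-- Joining two partial assignments. -/
def agree (p q : ℕ × ℕ) : Option (ℕ × ℕ) :=
  if (p.2 ^^^ q.2) &&& (p.1 &&& q.1) == 0 then some (p.1 ||| q.1, p.2 ||| q.2) else none

/-- The condition on the orbit bits for an element to be central. -/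
def req (a : ℕ) : Option (ℕ × ℕ) :=
  if a >>> 5 == 0 then (if a != 0 then some (0, 0) else none)
  else if isSing a then (if singSet.testBit a then some (0, 0) else none)
  else some (2 ^ cosetNo a, if orbOne.testBit a then 2 ^ cosetNo a else 0)

/-- The condition for a list of elements to be central. -/
def reqs : List ℕ → Option (ℕ × ℕ)
  | [] => some (0, 0)
  | a :: l =>
    match req a, reqs l with
    | some p, some q => agree p q
    | _, _ => none

/-- The orbit bits satisfy a partial assignment. -/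
def Sat (b : ℕ) (p : ℕ × ℕ) : Prop := b &&& p.1 = p.2

theorem Sat.agree {b : ℕ} {p q : ℕ × ℕ} (hp : Sat b p) (hq : Sat b q) :
    ∃ r, agree p q = some r ∧ Sat b r := by
  unfold Sat at hp hq
  have h : (p.2 ^^^ q.2) &&& (p.1 &&& q.1) = 0 := by
    apply Nat.eq_of_testBit_eq
    intro i
    rw [← hp, ← hq]
    simp only [Nat.testBit_and, Nat.testBit_xor, Nat.zero_testBit]
    cases b.testBit i <;> cases p.1.testBit i <;> cases q.1.testBit i <;> rfl
  refine ⟨(p.1 ||| q.1, p.2 ||| q.2), by simp [Co1Golay29.agree, h], ?_⟩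
  show b &&& (p.1 ||| q.1) = p.2 ||| q.2
  rw [Nat.and_or_distrib_left, hp, hq]

theorem sat_zero (b : ℕ) : Sat b (0, 0) := Nat.and_zero b

theorem sat_req {b a : ℕ} (h : cen b a = true) : ∃ p, req a = some p ∧ Sat b p := by
  unfold cen at h
  unfold req
  split_ifs at h ⊢ <;> first
    | exact ⟨_, rfl, sat_zero b⟩
    | (simp_all; done)
    | (refine ⟨_, rfl, ?_⟩
       show b &&& 2 ^ cosetNo a = _
       rw [Nat.and_two_pow, show b.testBit (cosetNo a) = orbOne.testBit a from beq_iff_eq.mp h]
       simp_all)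

theorem sat_reqs {b : ℕ} : ∀ {l : List ℕ}, (∀ a ∈ l, cen b a = true) →
    ∃ p, reqs l = some p ∧ Sat b p
  | [], _ => ⟨_, rfl, sat_zero b⟩
  | a :: l, h => by
    obtain ⟨p, hp, hp'⟩ := sat_req (h a (List.mem_cons_self ..))
    obtain ⟨q, hq, hq'⟩ := sat_reqs fun x hx => h x (List.mem_cons_of_mem _ hx)
    obtain ⟨r, hr, hr'⟩ := hp'.agree hq'
    exact ⟨r, by simp [reqs, hp, hq, hr], hr'⟩

/-- The least element of a coset. -/
def red (base : List ℕ) (c : ℕ) : ℕ := (base.map (c ^^^ ·)).foldr min c

/-- The representatives of the cosets that may consist of central elements. -/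
def cands (base : List ℕ) : List ℕ :=
  (List.range 2048).filter fun c =>
    red base c == c && !base.contains c && base.all fun v => (req (c ^^^ v)).isSome

/-- The elements added to a pencil by two further generators. -/
def ext (base : List ℕ) (c d : ℕ) : List ℕ :=
  base.map (c ^^^ ·) ++ (base.map (d ^^^ ·) ++ base.map (c ^^^ d ^^^ ·))

/-- The check of the completions of one pencil. -/
def pencilOK (P : List ℕ × List (ℕ × ℕ)) : Bool :=
  (P.1.all fun v => v < 2048 && P.1.all fun w => P.1.contains (v ^^^ w)) && P.1.contains 0 &&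
    let cs := cands P.1
    cs.all fun c => cs.all fun d => d ≤ c ||
      match reqs (ext P.1 c d) with
      | some p => P.2.contains p
      | none => true

/-- The partial assignments compatible with the pencils. -/
def states : List (List ℕ × List (ℕ × ℕ)) → List (ℕ × ℕ) → List (ℕ × ℕ)
  | [], st => st
  | P :: r, st => states r ((st.flatMap fun s => P.2.filterMap (agree s)).eraseDups)

theorem pencils_ok : pencils.all pencilOK = true := by decide +kernel

theorem states_ok : ((states pencils [(0, 0)]).all fun s =>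
    s.1 == 2 ^ 28 - 1 && flipBits.contains s.2) = true := by decide +kernel

theorem cosetNo_lt : ((List.range 2048).all fun a => cosetNo a < 28) = true := by decide +kernel

/-- A completion of a pencil by central elements. -/
def Completed (b : ℕ) (base : List ℕ) : Prop :=
  ∃ c d : ℕ, c < 2048 ∧ d < 2048 ∧ c ∉ base ∧ d ∉ base ∧ c ^^^ d ∉ base ∧
    ∀ v ∈ base, cen b (c ^^^ v) = true ∧ cen b (d ^^^ v) = true ∧ cen b (c ^^^ d ^^^ v) = true

theorem red_mem (base : List ℕ) (c : ℕ) : red base c = c ∨ ∃ v ∈ base, red base c = c ^^^ v := by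
  unfold red
  induction base with
  | nil => exact Or.inl rfl
  | cons a l ih =>
    simp only [List.map_cons, List.foldr_cons]
    rcases min_choice (c ^^^ a) ((l.map (c ^^^ ·)).foldr min c) with e | e
    · exact Or.inr ⟨a, List.mem_cons_self .., e⟩
    · rw [e]; rcases ih with h | ⟨v, hv, h⟩
      · exact Or.inl h
      · exact Or.inr ⟨v, List.mem_cons_of_mem _ hv, h⟩

theorem foldr_min_le {l : List ℕ} {c x : ℕ} (h : x = c ∨ x ∈ l) : l.foldr min c ≤ x := by
  induction l with
  | nil => simp at h; simp [h]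
  | cons a l ih =>
    simp only [List.foldr_cons, List.mem_cons] at h ⊢
    rcases h with h | h | h
    · exact (min_le_right _ _).trans (ih (Or.inl h))
    · exact h ▸ min_le_left _ _
    · exact (min_le_right _ _).trans (ih (Or.inr h))


theorem red_le {base : List ℕ} {c v : ℕ} (hv : v ∈ base) : red base c ≤ c ^^^ v :=
  foldr_min_le (Or.inr (List.mem_map.mpr ⟨v, hv, rfl⟩))

theorem red_le_self (base : List ℕ) (c : ℕ) : red base c ≤ c := foldr_min_le (Or.inl rfl)

/-- A completed pencil gives one of the listed partial assignments. -/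
theorem exists_option {b : ℕ} {P : List ℕ × List (ℕ × ℕ)} (hok : pencilOK P = true)
    (h : Completed b P.1) : ∃ o ∈ P.2, Sat b o := by
  simp only [pencilOK, Bool.and_eq_true, List.all_eq_true, decide_eq_true_eq,
    List.contains_iff_mem] at hok
  obtain ⟨⟨hbase, h0⟩, hpair⟩ := hok
  set B := P.1
  have hclose : ∀ {v w}, v ∈ B → w ∈ B → v ^^^ w ∈ B := fun hv hw => (hbase _ hv).2 _ hw
  obtain ⟨c, d, hc, hd, hcB, hdB, hcdB, hall⟩ := h
  -- replace the two generators by the least elements of their cosets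
  have hred : ∀ x, ∃ v ∈ B, red B x = x ^^^ v := fun x => by
    rcases red_mem B x with e | e
    · exact ⟨0, h0, by rw [e, Nat.xor_zero]⟩
    · exact e
  obtain ⟨u, hu, hcu⟩ := hred c
  obtain ⟨w, hw, hdw⟩ := hred d
  have hfix : ∀ {x v}, v ∈ B → red B (x ^^^ v) = red B x := fun {x v} hv => by
    obtain ⟨p, hp, ep⟩ := hred (x ^^^ v)
    obtain ⟨q, hq, eq⟩ := hred x
    apply le_antisymm
    · calc red B (x ^^^ v) ≤ x ^^^ v ^^^ (v ^^^ q) := red_le (hclose hv hq)
        _ = red B x := by rw [eq, ← Nat.xor_assoc, Nat.xor_assoc x v v, Nat.xor_self, Nat.xor_zero]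
    · calc red B x ≤ x ^^^ (v ^^^ p) := red_le (hclose hv hp)
        _ = red B (x ^^^ v) := by rw [ep, Nat.xor_assoc]
  have hcand : ∀ {x v}, v ∈ B → x < 2048 → x ∉ B → red B x = x ^^^ v →
      (∀ y ∈ B, cen b (x ^^^ y) = true) → x ^^^ v ∈ cands B := fun {x v} hv hx hxB he hcen => by
    simp only [cands, List.mem_filter, List.mem_range, Bool.and_eq_true, beq_iff_eq,
      List.all_eq_true, Bool.not_eq_true', List.contains_eq_mem, decide_eq_false_iff_not]
    refine ⟨by rw [← he]; exact lt_of_le_of_lt (red_le_self _ _) hx,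
      ⟨by rw [hfix hv, he], ?_⟩, fun y hy => ?_⟩
    · intro hm
      apply hxB
      have := hclose hm hv
      rwa [Nat.xor_assoc, Nat.xor_self, Nat.xor_zero] at this
    · obtain ⟨p, hp, -⟩ := sat_req (hcen _ (hclose hv hy))
      rw [Nat.xor_assoc, hp]; rfl
  have hC := hcand hu hc hcB hcu (fun y hy => (hall y hy).1)
  have hD := hcand hw hd hdB hdw (fun y hy => (hall y hy).2.1)
  have hne : c ^^^ u ≠ d ^^^ w := by
    intro e
    apply hcdB
    have h1 := hclose hu hw
    have e2 : c ^^^ d = u ^^^ w := by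
      have := congrArg (· ^^^ (u ^^^ d)) e
      simp only [← Nat.xor_assoc] at this
      rw [Nat.xor_assoc c u u, Nat.xor_self, Nat.xor_zero] at this
      rw [this, Nat.xor_comm d w, Nat.xor_assoc w d u, Nat.xor_comm d u, ← Nat.xor_assoc w u d,
        Nat.xor_assoc (w ^^^ u) d d, Nat.xor_self, Nat.xor_zero, Nat.xor_comm w u]
    rwa [e2]
  have hpick : ∀ {x y}, x ∈ cands B → y ∈ cands B → x < y →
      (∀ a ∈ ext B x y, cen b a = true) → ∃ o ∈ P.2, Sat b o := fun {x y} hx hy hxy hcen => by
    obtain ⟨p, hp, hp'⟩ := sat_reqs hcen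
    have := hpair _ hx _ hy
    rw [Bool.or_eq_true, decide_eq_true_eq] at this
    rcases this with e | e
    · omega
    · rw [hp, List.contains_iff_mem] at e
      exact ⟨p, e, hp'⟩
  have hext : ∀ a ∈ ext B (c ^^^ u) (d ^^^ w), cen b a = true := by
    intro a ha
    simp only [ext, List.mem_append, List.mem_map] at ha
    rcases ha with ⟨v, hv, rfl⟩ | ⟨v, hv, rfl⟩ | ⟨v, hv, rfl⟩
    · rw [Nat.xor_assoc]; exact (hall _ (hclose hu hv)).1
    · rw [Nat.xor_assoc]; exact (hall _ (hclose hw hv)).2.1
    · rw [show c ^^^ u ^^^ (d ^^^ w) ^^^ v = c ^^^ d ^^^ (u ^^^ w ^^^ v) by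
        simp only [Nat.xor_assoc]; congr 1; rw [← Nat.xor_assoc u d, Nat.xor_comm u d,
          Nat.xor_assoc]]
      exact (hall _ (hclose (hclose hu hw) hv)).2.2
  rcases lt_or_gt_of_ne hne with hlt | hlt
  · exact hpick hC hD hlt hext
  · refine hpick hD hC hlt fun a ha => hext a ?_
    simp only [ext, List.mem_append, Nat.xor_comm (c ^^^ u) (d ^^^ w)] at ha ⊢
    tauto

theorem sat_states {b : ℕ} : ∀ {L : List (List ℕ × List (ℕ × ℕ))} {st : List (ℕ × ℕ)},
    (∀ P ∈ L, ∃ o ∈ P.2, Sat b o) → (∃ s ∈ st, Sat b s) → ∃ s ∈ states L st, Sat b s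
  | [], _, _, h => h
  | P :: r, st, hL, ⟨s, hs, hs'⟩ => by
    obtain ⟨o, ho, ho'⟩ := hL P (List.mem_cons_self ..)
    obtain ⟨q, hq, hq'⟩ := hs'.agree ho'
    show ∃ s ∈ states r _, Sat b s
    refine sat_states (L := r) (fun Q hQ => hL Q (List.mem_cons_of_mem _ hQ)) ⟨q, ?_, hq'⟩
    rw [List.mem_eraseDups, List.mem_flatMap]
    exact ⟨s, hs, List.mem_filterMap.mpr ⟨o, ho, hq⟩⟩

/-- With all pencils completed the orbit bits are one of the listed choices. -/
theorem cen_eq_flip {b : ℕ} (h : ∀ P ∈ pencils, Completed b P.1) :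
    ∃ f ∈ flipBits, ∀ a < 2048, cen b a = cen f a := by
  obtain ⟨s, hs, hs'⟩ := sat_states (L := pencils) (st := [(0, 0)])
    (fun P hP => exists_option (List.all_eq_true.mp pencils_ok P hP) (h P hP))
    ⟨_, List.mem_singleton_self _, sat_zero b⟩
  have := List.all_eq_true.mp states_ok s hs
  rw [Bool.and_eq_true, beq_iff_eq, List.contains_iff_mem] at this
  refine ⟨s.2, this.2, fun a ha => ?_⟩
  unfold Sat at hs'
  rw [this.1] at hs'
  have hlt : cosetNo a < 28 := by
    simpa using List.all_eq_true.mp cosetNo_lt a (List.mem_range.mpr ha)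
  have : s.2.testBit (cosetNo a) = b.testBit (cosetNo a) := by
    rw [← hs', Nat.testBit_and, Nat.testBit_two_pow_sub_one]
    simp [hlt]
  unfold cen
  rw [this]

end Cfsg.Agent.Lib.Co1Golay29
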