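/-
The sets of central elements allowed by the pencil completions are octad classes of the code.
-/
import Cfsg.Agent.Lib.Co1Golay29.Table
import Cfsg.Agent.Lib.Co1Golay29.Models

set_option autoImplicit false
set_option maxRecDepth 1000000

namespace Cfsg.Agent.Lib.Co1Golay29

open Data

/-- The image of an element in the code. -/
def codeImage (B : List ℕ) (a : ℕ) : ℕ := Golay.combine B a

/-- The weight is eight or sixteen. -/
def isOctClass (v : ℕ) : Bool := Golay.popCount v == 8 || Golay.popCount v == 16

/-- The check of one element in one model. -/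
def modelAt (M : ℕ × List ℕ) (a : ℕ) : Bool :=
  let v := codeImage M.2 a
  cen M.1 a == isOctClass v && (a == 0 || (v != 0 && v != 16777215))

/-- The check of one model. -/
def modelOK (M : ℕ × List ℕ) : Bool :=
  M.2.length == 11 && (M.2.all fun v => Golay.isCodeMask v) &&
    (List.range 2048).all fun a => modelAt M a

theorem models_fst : Data.models.map Prod.fst = flipBits := by decide +kernel

theorem models_ok1 : ((Data.models.take 32).all modelOK) = true := by decide +kernel

theorem models_ok2 : ((Data.models.drop 32).all modelOK) = true := by decide +kernel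

theorem isCodeSet_codeImage {B : List ℕ} (hB : ∀ v ∈ B, Golay.IsCodeSet (Golay.ptsOf v))
    (a : ℕ) : Golay.IsCodeSet (Golay.ptsOf (codeImage B a)) :=
  Golay.combine_mem (P := fun m => Golay.IsCodeSet (Golay.ptsOf m))
    (by rw [Golay.ptsOf_zero]; exact Golay.isCodeSet_empty)
    (fun p q hp hq => by rw [Golay.ptsOf_xor]; exact hp.symmDiff hq) B hB a

theorem codeImage_xor (B : List ℕ) (a c : ℕ) :
    codeImage B (a ^^^ c) = codeImage B a ^^^ codeImage B c := Golay.combine_xor B a c

/-- With all pencils completed, the coordinates map onto code words modulo the all-ones word and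
the central elements are the classes of octads. -/
theorem exists_codeImage {b : ℕ} (h : ∀ P ∈ pencils, Completed b P.1) :
    ∃ B : List ℕ, B.length = 11 ∧ (∀ v ∈ B, Golay.isCodeMask v = true) ∧
      (∀ a < 2048, a ≠ 0 → codeImage B a ≠ 0 ∧ codeImage B a ≠ 16777215) ∧
      ∀ a < 2048, cen b a = isOctClass (codeImage B a) := by
  obtain ⟨f, hf, hfa⟩ := cen_eq_flip h
  rw [← models_fst, List.mem_map] at hf
  obtain ⟨M, hM, rfl⟩ := hf
  have hok : modelOK M = true := by
    rw [← List.take_append_drop 32 Data.models, List.mem_append] at hM
    rcases hM with hM | hM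
    · exact List.all_eq_true.mp models_ok1 M hM
    · exact List.all_eq_true.mp models_ok2 M hM
  simp only [modelOK, modelAt, Bool.and_eq_true, beq_iff_eq, List.all_eq_true, List.mem_range,
    Bool.or_eq_true, bne_iff_ne] at hok
  obtain ⟨⟨hlen, hcode⟩, hall⟩ := hok
  exact ⟨M.2, hlen, hcode,
    fun a ha h0 => (hall a ha).2.resolve_left h0, fun a ha => (hfa a ha).trans (hall a ha).1⟩

end Cfsg.Agent.Lib.Co1Golay29
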