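/-
An elementary abelian group of order `2 ^ 11` whose set of central involutions has the shape
allowed by the pencil completions: its automiser is the group of the length-24 code, with two
orbits on the non-identity elements.
-/
import Cfsg.Agent.Lib.Co1Golay29.Octads
import Cfsg.Agent.Lib.Golay.Transitive
import Cfsg.Agent.S5549

set_option autoImplicit false
set_option maxRecDepth 1000000

namespace Cfsg.Agent.Lib.Co1Golay29

open Cfsg
open scoped Pointwise symmDiff

variable {G : Type*} [Group G]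

/-- Coordinates on an elementary abelian group in which the classes of `z` under the normaliser
are given by orbit bits. -/
structure Coords (A : Subgroup G) (z : G) (b : ℕ) where
  /-- The element with given coordinates. -/
  f : ℕ → G
  mem : ∀ a < 2048, f a ∈ A
  surj : ∀ x ∈ A, ∃ a < 2048, f a = x
  inj : ∀ a < 2048, ∀ c < 2048, f a = f c → a = c
  map_xor : ∀ a < 2048, ∀ c < 2048, f (a ^^^ c) = f a * f c
  central : ∀ a < 2048, (∃ n ∈ Subgroup.normalizer (A : Set G), n * z * n⁻¹ = f a) ↔ cen b a = true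

theorem count_cen : (Data.flipBits.all fun b =>
    (List.range 2048).countP (fun a => cen b a) == 759) = true := by decide +kernel

theorem separated : ((List.range 24).all fun i => (List.range 24).all fun j => i == j ||
    Golay.codeMasks.any fun m => Golay.popCount m == 8 && m.testBit i && !m.testBit j) = true := by
  decide +kernel

theorem eq_one_of_fixes_octads {σ : Equiv.Perm GolayPt} (h : ∀ o ∈ octads, σ • o = o) : σ = 1 := by
  ext1 p
  by_contra hne
  have hij : (Golay.idx p).val ≠ (Golay.idx (σ p)).val := fun e =>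
    hne (Golay.ptEquiv.injective (Fin.ext e)).symm
  have := List.all_eq_true.mp (List.all_eq_true.mp separated _
    (List.mem_range.mpr (Golay.idx p).isLt)) _ (List.mem_range.mpr (Golay.idx (σ p)).isLt)
  simp only [Bool.or_eq_true, beq_iff_eq, List.any_eq_true, Bool.and_eq_true,
    Bool.not_eq_true'] at this
  rcases this with e | ⟨m, hm, ⟨⟨h8, hi⟩, hj⟩⟩
  · exact hij e
  · have ho : Golay.ptsOf m ∈ octads := Golay.mem_octads_iff.mpr
      ⟨Golay.isCodeSet_iff_mem.mpr ⟨m, hm, rfl⟩, by rw [Golay.card_ptsOf, h8]⟩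
    have hp : σ p ∈ σ • Golay.ptsOf m :=
      Finset.smul_mem_smul_finset (a := σ) (Golay.mem_ptsOf.mpr hi)
    rw [h _ ho, Golay.mem_ptsOf, hj] at hp
    exact Bool.false_ne_true hp

/-- The word of an element, with a choice of complement. -/
def word2 (B : List ℕ) (p : ℕ × Bool) : ℕ :=
  codeImage B p.1 ^^^ (if p.2 then 16777215 else 0)

theorem ptsOf_univ : Golay.ptsOf 16777215 = Finset.univ := S5549.ptsOf_full

variable {A : Subgroup G} {z : G} {b : ℕ}

theorem Coords.f_zero (C : Coords A z b) : C.f 0 = 1 := by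
  have h := C.map_xor 0 (by norm_num) 0 (by norm_num)
  rw [Nat.xor_self] at h
  exact mul_left_cancel (h.symm.trans (mul_one _).symm)

/-- The automiser of the group is the group of the code, with two orbits. -/
theorem automiser [Finite G] (C : Coords A z b) (hb : ∀ P ∈ Data.pencils, Completed b P.1)
    (hself : ∀ g : G, (∀ x ∈ A, g * x = x * g) → g ∈ A)
    (hcard : Nat.card ↥(Subgroup.normalizer (A : Set G) ⊓ Subgroup.centralizer ({z} : Set G)) =
      322560 * 2048) :
    ∃ _ : (A.subgroupOf (Subgroup.normalizer (A : Set G))).Normal,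
      Nonempty (↥(Subgroup.normalizer (A : Set G)) ⧸ A.subgroupOf (Subgroup.normalizer (A : Set G))
        ≃* ↥Cfsg.M24) ∧
      ∃ a ∈ A, ∃ c ∈ A, a ≠ 1 ∧ c ≠ 1 ∧
        (∀ n ∈ Subgroup.normalizer (A : Set G), n * a * n⁻¹ ≠ c) ∧
        ∀ x ∈ A, x ≠ 1 → ∃ n ∈ Subgroup.normalizer (A : Set G),
          n * x * n⁻¹ = a ∨ n * x * n⁻¹ = c := by
  classical
  obtain ⟨B, -, hBmask, hBinj, hBcen⟩ := exists_codeImage hb
  have hBcode : ∀ v ∈ B, Golay.IsCodeSet (Golay.ptsOf v) := fun v hv =>
    Golay.isCodeSet_of_isCodeMask (hBmask v hv)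
  obtain ⟨fb, hfb, hfba⟩ := cen_eq_flip hb
  set N := Subgroup.normalizer (A : Set G) with hN
  have hconj : ∀ n : ↥N, ∀ x ∈ A, (n : G) * x * (n : G)⁻¹ ∈ A := fun n x hx =>
    (Subgroup.mem_normalizer_iff.mp n.2 x).mp hx
  choose sig hsiglt hsigeq using fun (n : ↥N) (a : ℕ) =>
    (if h : a < 2048 then
      (let ⟨c, hc, e⟩ := C.surj _ (hconj n _ (C.mem a h))
       ⟨c, hc, fun _ => e⟩)
     else ⟨0, by norm_num, fun h' => absurd h' h⟩ :
      ∃ c, c < 2048 ∧ (a < 2048 → C.f c = (n : G) * C.f a * (n : G)⁻¹))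
  have hsx : ∀ n a c, a < 2048 → c < 2048 → sig n (a ^^^ c) = sig n a ^^^ sig n c := by
    intro n a c ha hc
    have hac : a ^^^ c < 2048 := Nat.xor_lt_two_pow (n := 11) ha hc
    refine C.inj _ (hsiglt n _) _ (Nat.xor_lt_two_pow (n := 11) (hsiglt n a) (hsiglt n c)) ?_
    rw [hsigeq n _ hac, C.map_xor a ha c hc, C.map_xor _ (hsiglt n a) _ (hsiglt n c),
      hsigeq n a ha, hsigeq n c hc]
    group
  have hs0 : ∀ n a, a < 2048 → (sig n a = 0 ↔ a = 0) := by
    intro n a ha
    have h := hsigeq n a ha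
    constructor
    · intro e
      rw [e, C.f_zero] at h
      refine C.inj a ha 0 (by norm_num) ?_
      rw [C.f_zero, eq_comm]
      exact (conj_eq_one_iff.mp h.symm).symm
    · rintro rfl
      refine C.inj _ (hsiglt n 0) 0 (by norm_num) ?_
      rw [h, C.f_zero]; group
  have hscen : ∀ n a, a < 2048 → cen b (sig n a) = cen b a := by
    intro n a ha
    rw [Bool.eq_iff_iff, ← C.central _ (hsiglt n a), ← C.central a ha, hsigeq n a ha]
    constructor
    · rintro ⟨m, hm, e⟩
      refine ⟨(n : G)⁻¹ * m, mul_mem (inv_mem n.2) hm, ?_⟩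
      rw [show (n : G)⁻¹ * m * z * ((n : G)⁻¹ * m)⁻¹ = (n : G)⁻¹ * (m * z * m⁻¹) * n by group, e]
      group
    · rintro ⟨m, hm, e⟩
      exact ⟨n * m, mul_mem n.2 hm, by rw [← e]; group⟩
  -- the words
  have hlt : ∀ p, word2 B p < 16777216 := by
    intro p
    refine Nat.xor_lt_two_pow (n := 24) ?_ (by split_ifs <;> norm_num)
    refine Golay.combine_mem (P := fun m => m < 2 ^ 24) (by norm_num)
      (fun p q hp hq => Nat.xor_lt_two_pow (n := 24) hp hq) B (fun v hv => ?_) p.1
    rw [← beq_iff_eq.mp (hBmask v hv)]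
    exact Golay.encode_lt _ (Nat.mod_lt _ (by norm_num))
  have hWcode : ∀ p, Golay.IsCodeSet (Golay.ptsOf (word2 B p)) := fun p => by
    rw [word2, Golay.ptsOf_xor]
    refine (isCodeSet_codeImage hBcode _).symmDiff ?_
    cases p.2
    · simpa [Golay.ptsOf_zero] using Golay.isCodeSet_empty
    · simpa [ptsOf_univ] using Golay.isCodeSet_univ
  have hW2 : ∀ a c : ℕ, ∀ ε δ : Bool,
      word2 B (a, ε) ^^^ word2 B (c, δ) = word2 B (a ^^^ c, xor ε δ) := by
    intro a c ε δ
    simp only [word2, codeImage_xor]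
    cases ε <;> cases δ <;>
      simp [Nat.xor_assoc, Nat.xor_comm, Nat.xor_left_comm]
  have hzero : ∀ {a}, a < 2048 → ∀ ε, word2 B (a, ε) = 0 → a = 0 ∧ ε = false := by
    intro a ha ε h
    by_cases h0 : a = 0
    · subst h0
      refine ⟨rfl, ?_⟩
      cases ε
      · rfl
      · simp [word2, codeImage, Golay.combine_zero] at h
    · obtain ⟨h1, h2⟩ := hBinj a ha h0
      exfalso
      cases ε
      · exact h1 (by simpa [word2] using h)
      · exact h2 (Nat.xor_eq_zero_iff.mp (by simpa [word2] using h))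
  let Φ : Fin 2048 × Bool → {s : Finset GolayPt // Golay.IsCodeSet s} := fun p =>
    ⟨Golay.ptsOf (word2 B (p.1.val, p.2)), hWcode _⟩
  have hΦi : Function.Injective Φ := by
    rintro ⟨⟨a, ha⟩, ε⟩ ⟨⟨c, hc⟩, δ⟩ h
    have h1 : word2 B (a, ε) = word2 B (c, δ) :=
      Golay.ptsOf_injective (hlt _) (hlt _) (congrArg Subtype.val h)
    have h2 := hW2 a c ε δ
    rw [h1, Nat.xor_self] at h2
    obtain ⟨h3, h4⟩ := hzero (Nat.xor_lt_two_pow (n := 11) ha hc) _ h2.symm
    obtain rfl := Nat.xor_eq_zero_iff.mp h3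
    have : ε = δ := by revert h4; cases ε <;> cases δ <;> simp
    subst this; rfl
  have hsurjE : Function.Surjective
      (fun x : Fin 4096 => (⟨Golay.ptsOf (Golay.encode x.val), Golay.encode_isCodeSet _⟩ :
        {s : Finset GolayPt // Golay.IsCodeSet s})) := by
    rintro ⟨s, hs⟩
    obtain ⟨x, hx, rfl⟩ := hs.exists_eq
    exact ⟨⟨x, hx⟩, rfl⟩
  have hΦ : Function.Bijective Φ := by
    haveI : Fintype {s : Finset GolayPt // Golay.IsCodeSet s} := Fintype.ofFinite _
    rw [Fintype.bijective_iff_injective_and_card]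
    refine ⟨hΦi, le_antisymm (Fintype.card_le_of_injective _ hΦi) ?_⟩
    refine le_trans (Fintype.card_le_of_surjective _ hsurjE) ?_
    simp
  set eΦ := Equiv.ofBijective Φ hΦ
  let sg : ↥N → Fin 2048 × Bool → Fin 2048 × Bool := fun n p =>
    (⟨sig n p.1.val, hsiglt _ _⟩, p.2)
  let X : ↥N → Finset GolayPt → Finset GolayPt := fun n s =>
    if h : Golay.IsCodeSet s then (Φ (sg n (eΦ.symm ⟨s, h⟩))).val else ∅
  have hXΦ : ∀ n p, X n (Φ p).val = (Φ (sg n p)).val := fun n p => by
    simp only [X, dif_pos (Φ p).2]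
    rw [show (⟨(Φ p).val, (Φ p).2⟩ : {s // Golay.IsCodeSet s}) = eΦ p from rfl,
      Equiv.symm_apply_apply]
  have hexΦ : ∀ {s}, Golay.IsCodeSet s → ∃ p, (Φ p).val = s := fun {s} hs =>
    let ⟨p, hp⟩ := hΦ.2 ⟨s, hs⟩
    ⟨p, congrArg Subtype.val hp⟩
  have hadd : ∀ p q : Fin 2048 × Bool, (Φ p).val ∆ (Φ q).val =
      Golay.ptsOf (word2 B (p.1.val ^^^ q.1.val, xor p.2 q.2)) := fun p q => by
    rw [← hW2, Golay.ptsOf_xor]
  have hmin : ∀ a ε, min (Golay.ptsOf (word2 B (a, ε))).card
      (24 - (Golay.ptsOf (word2 B (a, ε))).card) =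
      min (Golay.ptsOf (codeImage B a)).card (24 - (Golay.ptsOf (codeImage B a)).card) := by
    intro a ε
    cases ε
    · simp [word2]
    · refine S5549.Same.min_eq (Or.inr ?_)
      simp only [word2, if_true, Golay.ptsOf_xor, ptsOf_univ]
      ext q; simp [Finset.mem_symmDiff]
  have hoct : ∀ a < 2048,
      (cen b a = true ↔ (Golay.ptsOf (codeImage B a)).card = 8 ∨
        (Golay.ptsOf (codeImage B a)).card = 16) ∧
      (a = 0 ↔ (Golay.ptsOf (codeImage B a)).card = 0 ∨
        (Golay.ptsOf (codeImage B a)).card = 24) := by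
    intro a ha
    refine ⟨by rw [hBcen a ha, isOctClass, Golay.card_ptsOf]; simp, ⟨?_, ?_⟩⟩
    · rintro rfl
      left; simp [codeImage, Golay.combine_zero, Golay.ptsOf_zero]
    · intro h
      have hl : codeImage B a < 16777216 := by simpa [word2] using hlt (a, false)
      rcases h with h | h
      · rw [Finset.card_eq_zero, ← Golay.ptsOf_zero] at h
        exact (hzero ha false (by
          simpa [word2] using Golay.ptsOf_injective hl (by norm_num) h)).1
      · have h' : Golay.ptsOf (codeImage B a) = Golay.ptsOf 16777215 := by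
          rw [ptsOf_univ]; exact Finset.eq_univ_of_card _ (by rw [h, Golay.card_golayPt])
        exact (hzero ha true (by
          simp only [word2, if_true]
          rw [Golay.ptsOf_injective hl (by norm_num) h', Nat.xor_self])).1
  have hweight : ∀ n a, a < 2048 →
      min (Golay.ptsOf (codeImage B (sig n a))).card
        (24 - (Golay.ptsOf (codeImage B (sig n a))).card) =
      min (Golay.ptsOf (codeImage B a)).card (24 - (Golay.ptsOf (codeImage B a)).card) := by
    intro n a ha
    obtain ⟨o1, z1⟩ := hoct _ (hsiglt n a)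
    obtain ⟨o2, z2⟩ := hoct a ha
    rw [hscen n a ha] at o1
    rw [hs0 n a ha] at z1
    have c1 := Golay.card_isCodeSet (isCodeSet_codeImage hBcode (sig n a))
    have c2 := Golay.card_isCodeSet (isCodeSet_codeImage hBcode a)
    by_cases hc : cen b a = true
    · have := o1.mp hc; have := o2.mp hc; omega
    · by_cases h0 : a = 0
      · have := z1.mp h0; have := z2.mp h0; omega
      · have n1 := mt o1.mpr hc; have n2 := mt o2.mpr hc
        have n3 := mt z1.mpr h0; have n4 := mt z2.mpr h0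
        omega
  have hX : ∀ n, S5549.ClassMap (X n) := by
    intro n
    refine ⟨fun s hs => ?_, fun s t hs ht => ?_, ?_, fun s hs => ?_⟩
    · simp only [X, dif_pos hs]; exact (Φ _).2
    · obtain ⟨p, rfl⟩ := hexΦ hs
      obtain ⟨q, rfl⟩ := hexΦ ht
      have hpq : p.1.val ^^^ q.1.val < 2048 := Nat.xor_lt_two_pow (n := 11) p.1.2 q.1.2
      rw [hXΦ, hXΦ, hadd, hadd]
      show X n (Φ (⟨_, hpq⟩, xor p.2 q.2)).val = _
      rw [hXΦ]
      simp only [Φ, sg, hsx n _ _ p.1.2 q.1.2]
    · have e : (Φ (⟨0, by norm_num⟩, true)).val = Finset.univ := by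
        simp [Φ, word2, codeImage, Golay.combine_zero, ptsOf_univ]
      rw [← e, hXΦ]
      simp only [Φ, sg, (hs0 n 0 (by norm_num)).mpr rfl]
    · obtain ⟨⟨a, ε⟩, rfl⟩ := hexΦ hs
      rw [hXΦ]
      simp only [Φ, sg, hmin]
      exact hweight n _ a.2
  have hsame : ∀ {p q : Fin 2048 × Bool}, S5549.Same (Φ p).val (Φ q).val → p.1 = q.1 := by
    intro p q h
    rcases h with h | h
    · rw [hΦi (Subtype.ext h)]
    · have e : (Φ (q.1, !q.2)).val = (Φ q).valᶜ := by
        simp only [Φ, word2, Golay.ptsOf_xor]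
        cases q.2 <;>
        · simp only [Bool.not_true, Bool.not_false, Bool.false_eq_true, if_false, if_true,
            ptsOf_univ, Golay.ptsOf_zero]
          ext x; simp [Finset.mem_symmDiff]
      rw [← e] at h
      have := hΦi (Subtype.ext h)
      rw [this]
  have htrans : ∀ {u v w : Finset GolayPt}, S5549.Same u v → S5549.Same v w → S5549.Same u w := by
    rintro u v w (rfl | rfl) (rfl | rfl)
    · exact Or.inl rfl
    · exact Or.inr rfl
    · exact Or.inr rfl
    · exact Or.inl (compl_compl _)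
  have hsymm : ∀ {u v : Finset GolayPt}, S5549.Same u v → S5549.Same v u := by
    rintro u v (rfl | rfl)
    · exact Or.inl rfl
    · exact Or.inr (compl_compl _).symm
  choose σ hσM hσ using fun n => S5549.exists_same (hX n)
  have huniq : ∀ n τ, τ ∈ M24 → (∀ s, Golay.IsCodeSet s → S5549.Same (X n s) (τ • s)) → σ n = τ := by
    intro n τ hτ h
    have key : τ⁻¹ * σ n = 1 := eq_one_of_fixes_octads fun o ho => by
      have hs := (Golay.mem_octads_iff.mp ho).1
      have h8 := (Golay.mem_octads_iff.mp ho).2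
      rcases htrans (hsymm (h o hs)) (hσ n o hs) with e | e
      · rw [mul_smul, ← e, inv_smul_smul]
      · have := congrArg Finset.card e
        rw [Finset.card_compl, Finset.card_smul_finset, Finset.card_smul_finset,
          Golay.card_golayPt] at this
        omega
    exact (inv_mul_eq_one.mp key).symm
  have hcomp : ∀ m n p, X (m * n) (Φ p).val = X m (X n (Φ p).val) := by
    intro m n p
    rw [hXΦ, hXΦ, hXΦ]
    refine congrArg (fun q => (Φ q).val) (Prod.ext (Fin.ext ?_) rfl)
    refine C.inj _ (hsiglt _ _) _ (hsiglt _ _) ?_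
    show C.f (sig (m * n) p.1.val) = C.f (sig m (sig n p.1.val))
    rw [hsigeq _ _ p.1.2, hsigeq m _ (hsiglt _ _), hsigeq n _ p.1.2, Subgroup.coe_mul]
    group
  have hmul : ∀ m n, σ (m * n) = σ m * σ n := fun m n =>
    huniq _ _ (mul_mem (hσM m) (hσM n)) fun s hs => by
      obtain ⟨p, rfl⟩ := hexΦ hs
      rw [hcomp, mul_smul]
      exact htrans (hσ m _ ((hX n).code _ hs)) ((hσ n _ hs).smul (σ m))
  let ψ : ↥N →* ↥Cfsg.M24 := MonoidHom.mk' (fun n => ⟨σ n, hσM n⟩) fun m n => Subtype.ext (hmul m n)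
  have hcomm : ∀ x ∈ A, ∀ y ∈ A, x * y = y * x := by
    intro x hx y hy
    obtain ⟨a, ha, rfl⟩ := C.surj x hx
    obtain ⟨c, hc, rfl⟩ := C.surj y hy
    rw [← C.map_xor a ha c hc, ← C.map_xor c hc a ha, Nat.xor_comm]
  have hAN : A ≤ N := Subgroup.le_normalizer
  have hker : ψ.ker = A.subgroupOf N := by
    ext n
    rw [MonoidHom.mem_ker, Subgroup.mem_subgroupOf]
    constructor
    · intro h
      have h1 : σ n = 1 := congrArg Subtype.val h
      refine hself _ fun x hx => ?_
      obtain ⟨a, ha, rfl⟩ := C.surj x hx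
      have := hσ n (Φ (⟨a, ha⟩, false)).val (Φ _).2
      rw [h1, one_smul, hXΦ] at this
      have e : sig n a = a := congrArg Fin.val (hsame this)
      have h2 := hsigeq n a ha
      rw [e] at h2
      exact eq_mul_inv_iff_mul_eq.mp h2 |>.symm
    · intro h
      refine Subtype.ext (huniq n 1 (one_mem _) fun s hs => ?_)
      obtain ⟨p, rfl⟩ := hexΦ hs
      rw [one_smul, hXΦ]
      have e : sig n p.1.val = p.1.val := by
        refine C.inj _ (hsiglt _ _) _ p.1.2 ?_
        rw [hsigeq n _ p.1.2, hcomm _ h _ (C.mem _ p.1.2), mul_inv_cancel_right]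
      simp only [sg, e]
      exact Or.inl rfl
  -- counting
  have hcardA : Nat.card ↥A = 2048 := by
    rw [← Nat.card_fin 2048]
    refine (Nat.card_congr (Equiv.ofBijective (fun a : Fin 2048 => (⟨C.f a, C.mem _ a.2⟩ : ↥A))
      ⟨fun a c h => Fin.ext (C.inj _ a.2 _ c.2 (congrArg Subtype.val h)), fun x => ?_⟩)).symm
    obtain ⟨a, ha, e⟩ := C.surj x.1 x.2
    exact ⟨⟨a, ha⟩, Subtype.ext e⟩
  have hNcard : Nat.card ↥N = 759 * (322560 * 2048) := by
    letI : MulAction ↥N G := MulAction.compHom G (MulAut.conj.comp N.subtype)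
    have hsm : ∀ (n : ↥N) (g : G), n • g = (n : G) * g * (n : G)⁻¹ := fun _ _ => rfl
    have hst : Nat.card ↥(MulAction.stabilizer ↥N z) = 322560 * 2048 := by
      rw [← hcard]
      refine Nat.card_congr
        { toFun := fun n => ⟨n.1.1, n.1.2, Subgroup.mem_centralizer_singleton_iff.mpr ?_⟩
          invFun := fun g => ⟨⟨g.1, g.2.1⟩, ?_⟩
          left_inv := fun _ => rfl
          right_inv := fun _ => rfl }
      · have h := n.2
        rw [MulAction.mem_stabilizer_iff, hsm] at h
        exact mul_inv_eq_iff_eq_mul.mp h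
      · rw [MulAction.mem_stabilizer_iff, hsm]
        exact mul_inv_eq_iff_eq_mul.mpr (Subgroup.mem_centralizer_singleton_iff.mp g.2.2)
    have horb : (MulAction.orbit ↥N z).ncard = 759 := by
      have h759 : ((Finset.range 2048).filter fun a => cen b a = true).card = 759 := by
        have h := beq_iff_eq.mp (List.all_eq_true.mp count_cen fb hfb)
        rw [List.countP_eq_length_filter] at h
        rw [Finset.card_def, Finset.filter_val, Finset.range_val, Multiset.range,
          Multiset.filter_coe, Multiset.coe_card]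
        rw [← h]
        congr 1
        refine List.filter_congr fun a ha => ?_
        simp [hfba a (List.mem_range.mp ha)]
      rw [← h759, ← Finset.card_image_of_injOn (f := C.f) (fun a ha c hc e =>
        C.inj a (Finset.mem_range.mp (Finset.mem_filter.mp ha).1) c
          (Finset.mem_range.mp (Finset.mem_filter.mp hc).1) e), ← Set.ncard_coe_finset]
      congr 1
      ext x
      simp only [Finset.coe_image, Set.mem_image, Finset.mem_coe, Finset.mem_filter,
        Finset.mem_range, MulAction.mem_orbit_iff, hsm]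
      constructor
      · rintro ⟨n, rfl⟩
        have hz : z ∈ A := by
          have h1 : cen b 1 = true := by simp [cen]
          obtain ⟨m, hm, e⟩ := (C.central 1 (by norm_num)).mpr h1
          have := (Subgroup.mem_normalizer_iff.mp (inv_mem hm) _).mp (C.mem 1 (by norm_num))
          rw [← e] at this
          simpa [mul_assoc] using this
        obtain ⟨a, ha, e⟩ := C.surj _ (hconj n z hz)
        exact ⟨a, ⟨ha, (C.central a ha).mp ⟨n, n.2, e.symm⟩⟩, e⟩
      · rintro ⟨a, ⟨ha, hc⟩, rfl⟩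
        obtain ⟨n, hn, e⟩ := (C.central a ha).mpr hc
        exact ⟨⟨n, hn⟩, e⟩
    rw [← (MulAction.stabilizer ↥N z).index_mul_card, hst, MulAction.index_stabilizer, horb]
  haveI hnormal : (A.subgroupOf N).Normal := hker ▸ MonoidHom.normal_ker ψ
  have hsurj : Function.Surjective ψ := by
    refine MonoidHom.range_eq_top.mp (Subgroup.eq_top_of_card_eq _ ?_)
    rw [Golay.card_M24, ← Subgroup.index_ker, hker]
    have h := (A.subgroupOf N).index_mul_card
    rw [hNcard, Nat.card_congr (Subgroup.subgroupOfEquivOfLe hAN).toEquiv, hcardA] at h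
    omega
  refine ⟨hnormal, ⟨(QuotientGroup.quotientMulEquivOfEq hker.symm).trans
    (QuotientGroup.quotientKerEquivOfSurjective ψ hsurj)⟩, ?_⟩
  -- orbits
  obtain ⟨o, ho⟩ : octads.Nonempty := Set.nonempty_of_ncard_ne_zero (by
    rw [Golay.ncard_octads]; norm_num)
  obtain ⟨d, hd⟩ : dodecads.Nonempty := Set.nonempty_of_ncard_ne_zero (by
    rw [Golay.ncard_dodecads]; norm_num)
  obtain ⟨hoC, ho8⟩ := Golay.mem_octads_iff.mp ho
  obtain ⟨hdC, hd12⟩ := Golay.mem_dodecads_iff.mp hd
  obtain ⟨⟨⟨ao, hao⟩, εo⟩, hpo⟩ := hexΦ hoC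
  obtain ⟨⟨⟨ad, had⟩, εd⟩, hpd⟩ := hexΦ hdC
  have hco : cen b ao = true := by
    rw [(hoct ao hao).1]
    have := hmin ao εo
    simp only [Φ] at hpo
    rw [hpo, ho8] at this
    have := Golay.card_isCodeSet (isCodeSet_codeImage hBcode ao)
    omega
  have hd' : cen b ad ≠ true ∧ ad ≠ 0 := by
    rw [Ne, Ne, (hoct ad had).1, (hoct ad had).2]
    have := hmin ad εd
    simp only [Φ] at hpd
    rw [hpd, hd12] at this
    omega
  refine ⟨C.f ao, C.mem _ hao, C.f ad, C.mem _ had, ?_, ?_, ?_, ?_⟩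
  · intro e
    have := C.inj _ hao 0 (by norm_num) (e.trans C.f_zero.symm)
    subst this
    exact absurd hco (by unfold cen; simp)
  · intro e
    exact hd'.2 (C.inj _ had 0 (by norm_num) (e.trans C.f_zero.symm))
  · intro n hn e
    apply hd'.1
    have h := hscen ⟨n, hn⟩ ao hao
    rw [← C.inj _ (hsiglt ⟨n, hn⟩ ao) ad had ((hsigeq ⟨n, hn⟩ ao hao).trans e), h, hco]
  · intro x hx hx1
    obtain ⟨a, ha, rfl⟩ := C.surj x hx
    have ha0 : a ≠ 0 := fun e => hx1 (by rw [e, C.f_zero])
    have hreach : ∀ ε t δ, (∀ g, g ∈ M24 → g • (Φ (⟨a, ha⟩, ε)).val = (Φ (t, δ)).val →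
        ∃ n ∈ N, n * C.f a * n⁻¹ = C.f t.val) := by
      intro ε t δ g hg e
      obtain ⟨n, hn⟩ := hsurj ⟨g, hg⟩
      have h := hσ n _ (Φ (⟨a, ha⟩, ε)).2
      rw [show σ n = g from congrArg Subtype.val hn, e, hXΦ] at h
      refine ⟨n, n.2, ?_⟩
      rw [← hsigeq n a ha]
      exact congrArg C.f (congrArg Fin.val (hsame h))
    obtain ⟨ε, hε⟩ : ∃ ε, (Φ (⟨a, ha⟩, ε)).val.card = 8 ∨ (Φ (⟨a, ha⟩, ε)).val.card = 12 := by
      have hc := Golay.card_isCodeSet (isCodeSet_codeImage hBcode a)
      have h0 := mt (hoct a ha).2.mpr ha0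
      have h1 : (Golay.ptsOf (word2 B (a, true))).card =
          24 - (Golay.ptsOf (codeImage B a)).card := by
        simp only [word2, if_true, Golay.ptsOf_xor, ptsOf_univ]
        rw [← Golay.card_golayPt, ← Finset.card_compl]
        congr 1; ext q; simp [Finset.mem_symmDiff]
      by_cases h16 : (Golay.ptsOf (codeImage B a)).card = 16
      · exact ⟨true, Or.inl (by simp only [Φ]; rw [h1]; omega)⟩
      · refine ⟨false, ?_⟩
        simp only [Φ, word2, Bool.false_eq_true, if_false, Nat.xor_zero]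
        omega
    rcases hε with hε | hε
    · obtain ⟨g, hg, e⟩ := Golay.octads_transitive
        (Golay.mem_octads_iff.mpr ⟨(Φ (⟨a, ha⟩, ε)).2, hε⟩) ho
      obtain ⟨n, hn, h⟩ := hreach ε ⟨ao, hao⟩ εo g hg (e.trans hpo.symm)
      exact ⟨n, hn, Or.inl h⟩
    · obtain ⟨g, hg, e⟩ := Golay.dodecads_transitive
        (Golay.mem_dodecads_iff.mpr ⟨(Φ (⟨a, ha⟩, ε)).2, hε⟩) hd
      obtain ⟨n, hn, h⟩ := hreach ε ⟨ad, had⟩ εd g hg (e.trans hpd.symm)
      exact ⟨n, hn, Or.inr h⟩

end Cfsg.Agent.Lib.Co1Golay29
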